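import Groth.Prelude.Def_NonAbH2
import Mathlib.AlgebraicGeometry.Sites.Fpqc

/-!
# Points of actions, torsors and exact sequences of group schemes; fpqc descent of morphisms
-/

set_option autoImplicit false
set_option backward.isDefEq.respectTransparency false
set_option backward.defeqAttrib.useBackward true

universe u

open CategoryTheory CategoryTheory.Limits MonoidalCategory CartesianMonoidalCategory MonObj GrpObj AlgebraicGeometry

namespace Groth.Pi1Tors

variable {S : Scheme.{u}}

section Descent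

/-- The morphisms to the target which lift through `q`. -/
def liftSieve {W Q : Over S} (q : W ⟶ Q) : Sieve Q.left where
  arrows Y g := ∃ t : Y ⟶ W.left, t ≫ q.left = g
  downward_closed := by
    rintro Y Z g ⟨t, rfl⟩ h
    exact ⟨h ≫ t, Category.assoc _ _ _⟩

/-- `q` has local sections for the fpqc topology. -/
def LocSurj {W Q : Over S} (q : W ⟶ Q) : Prop := liftSieve q ∈ Scheme.fpqcTopology Q.left

theorem LocSurj.of_isLocallyTrivialFor {W Q : Over S} (q : W ⟶ Q)
    (h : NonAbH1.IsLocallyTrivialFor Scheme.fpqcPrecoverage (Over.mk q.left : Over Q.left)) : LocSurj q := by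
  obtain ⟨R, hR, hR'⟩ := h
  refine GrothendieckTopology.superset_covering _ ?_ (Precoverage.generate_mem_toGrothendieck hR)
  rintro Y g ⟨Z, a, b, hb, rfl⟩
  obtain ⟨s, hs⟩ := hR' b hb
  exact ⟨a ≫ s, by rw [Category.assoc]; exact congrArg (a ≫ ·) hs⟩

/-- A locally trivial scheme: the map to the point has local sections. -/
theorem locSurj_toUnit {X : Over S} (h : NonAbH1.IsLocallyTrivialFor Scheme.fpqcPrecoverage X) :
    LocSurj (toUnit X) :=
  LocSurj.of_isLocallyTrivialFor (toUnit X) (by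
    obtain ⟨R, hR, hR'⟩ := h
    refine ⟨R, hR, fun S' j hj => ?_⟩
    obtain ⟨s, hs⟩ := hR' j hj
    refine ⟨s, ?_⟩
    change s ≫ (toUnit X).left = j
    have := Over.w (toUnit X)
    rw [← hs, ← this]
    exact congrArg (s ≫ ·) (Category.comp_id _).symm)

theorem eq_of_liftSieve {W Q : Over S} {q : W ⟶ Q} (h : LocSurj q) {Z : Scheme.{u}} {a b : Q.left ⟶ Z}
    (hab : ∀ ⦃Y⦄ (g : Y ⟶ Q.left), liftSieve q g → g ≫ a = g ≫ b) : a = b :=
  ((GrothendieckTopology.Subcanonical.isSheaf_of_isRepresentable (yoneda.obj Z)) (liftSieve q) h).isSeparatedFor.ext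
    fun _ g hg => hab g hg

theorem LocSurj.cancel {W Q Z : Over S} {q : W ⟶ Q} (h : LocSurj q) {a b : Q ⟶ Z}
    (hab : q ≫ a = q ≫ b) : a = b := by
  refine Over.OverMorphism.ext (eq_of_liftSieve h ?_)
  rintro Y g ⟨t, rfl⟩
  rw [Category.assoc, Category.assoc]
  exact congrArg (fun z => t ≫ z) (congrArg CommaMorphism.left hab)

/-- A morphism constant on the fibres of a locally surjective morphism descends. -/
theorem LocSurj.desc {W Q Z : Over S} {q : W ⟶ Q} (h : LocSurj q) (a : W ⟶ Z)
    (ha : ∀ (T : Over S) (x y : T ⟶ W), x ≫ q = y ≫ q → x ≫ a = y ≫ a) : ∃ c : Q ⟶ Z, q ≫ c = a := by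
  have ha' : ∀ (Y : Scheme.{u}) (t t' : Y ⟶ W.left), t ≫ q.left = t' ≫ q.left → t ≫ a.left = t' ≫ a.left := by
    intro Y t t' htt
    have hW : ∀ s : Y ⟶ W.left, s ≫ W.hom = (s ≫ q.left) ≫ Q.hom := fun s => by rw [Category.assoc, Over.w q]
    let T : Over S := Over.mk ((t ≫ q.left) ≫ Q.hom)
    let x : T ⟶ W := Over.homMk t (hW t)
    let y : T ⟶ W := Over.homMk t' (by rw [hW t', ← htt]; rfl)
    exact congrArg CommaMorphism.left (ha T x y (Over.OverMorphism.ext htt))
  have hsh := (GrothendieckTopology.Subcanonical.isSheaf_of_isRepresentable (yoneda.obj Z.left)) (liftSieve q) h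
  let x : Presieve.FamilyOfElements (yoneda.obj Z.left) (liftSieve q).arrows := fun Y g hg => hg.choose ≫ a.left
  have hx : x.Compatible := by
    rw [Presieve.compatible_iff_sieveCompatible]
    intro Y Y' g g' hg
    show _ ≫ a.left = g' ≫ (_ ≫ a.left)
    rw [← Category.assoc]
    apply ha'
    rw [Category.assoc]
    exact ((liftSieve q).downward_closed hg g').choose_spec.trans (congrArg (g' ≫ ·) hg.choose_spec).symm
  have key : ∀ ⦃Y⦄ (t : Y ⟶ W.left), (t ≫ q.left) ≫ hsh.amalgamate x hx = t ≫ a.left := by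
    intro Y t
    have hg : liftSieve q (t ≫ q.left) := ⟨t, rfl⟩
    refine (hsh.valid_glue hx (t ≫ q.left) hg).trans ?_
    exact ha' _ _ _ hg.choose_spec
  refine ⟨Over.homMk (hsh.amalgamate x hx) (eq_of_liftSieve h ?_), ?_⟩
  · rintro Y g ⟨t, rfl⟩
    rw [← Category.assoc]
    refine (congrArg (fun z => z ≫ Z.hom) (key t)).trans ?_
    rw [Category.assoc, Over.w a, Category.assoc, Over.w q]
  · exact Over.OverMorphism.ext (by simpa using key (𝟙 W.left))

/-- Base change of a locally surjective map to the point. -/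
theorem LocSurj.fst {X : Over S} (h : LocSurj (toUnit X)) (T : Over S) : LocSurj (fst T X) := by
  refine GrothendieckTopology.superset_covering _ ?_ (Scheme.fpqcTopology.pullback_stable (toUnit T).left h)
  rintro Y g ⟨t, ht⟩
  let T' : Over S := Over.mk (g ≫ T.hom)
  let γ : T' ⟶ T := Over.homMk g rfl
  have ht' : t ≫ X.hom = g ≫ T.hom := by
    rw [← Over.w (toUnit X), ← Over.w (toUnit T), ← Category.assoc, ht, Category.assoc]
  let x : T' ⟶ X := Over.homMk t ht'
  exact ⟨(CartesianMonoidalCategory.lift γ x).left, congrArg CommaMorphism.left (CartesianMonoidalCategory.lift_fst γ x)⟩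

end Descent

section Action

variable {G X : Over S} [GrpObj G] (a : AlgGrp.Action G X)

/-- The action on points. -/
noncomputable def dot {T : Over S} (g : T ⟶ G) (x : T ⟶ X) : T ⟶ X := lift g x ≫ a.act

theorem act_eq_dot : a.act = dot a (fst G X) (snd G X) := by
  rw [dot, lift_fst_snd, Category.id_comp]

theorem comp_dot {T T' : Over S} (h : T' ⟶ T) (g : T ⟶ G) (x : T ⟶ X) :
    h ≫ dot a g x = dot a (h ≫ g) (h ≫ x) := by
  rw [dot, dot, ← Category.assoc, comp_lift]

theorem one_dot {T : Over S} (x : T ⟶ X) : dot a 1 x = x := by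
  have h : lift (1 : T ⟶ G) x = lift (toUnit T) x ≫ (η[G] ▷ X) := by
    rw [lift_whiskerRight, Hom.one_def]
  rw [dot, h, Category.assoc, a.one_act, lift_leftUnitor_hom]

theorem mul_dot {T : Over S} (g h : T ⟶ G) (x : T ⟶ X) : dot a (g * h) x = dot a g (dot a h x) := by
  rw [dot, dot, dot, Hom.mul_def, ← lift_whiskerRight (lift g h) x μ[G], Category.assoc, a.mul_act,
    lift_lift_associator_hom_assoc, lift_whiskerLeft_assoc]

theorem inv_dot {T : Over S} (g : T ⟶ G) (x : T ⟶ X) : dot a g⁻¹ (dot a g x) = x := by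
  rw [← mul_dot, inv_mul_cancel, one_dot]

theorem exists_dot_eq (ha : NonAbH1.IsPseudoTorsorSch a) {T : Over S} (x y : T ⟶ X) :
    ∃ g : T ⟶ G, dot a g y = x := by
  haveI : IsIso (lift a.act (snd G X)) := ha
  refine ⟨lift x y ≫ inv (lift a.act (snd G X)) ≫ fst G X, ?_⟩
  have e : lift (lift x y ≫ inv (lift a.act (snd G X)) ≫ fst G X) y = lift x y ≫ inv (lift a.act (snd G X)) := by
    apply CartesianMonoidalCategory.hom_ext
    · simp
    · rw [lift_snd, ← cancel_epi (𝟙 T), Category.id_comp, Category.id_comp, Category.assoc,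
        (IsIso.inv_comp_eq (lift a.act (snd G X))).2 (lift_snd _ _).symm, lift_snd]
  rw [dot, e, Category.assoc, (IsIso.inv_comp_eq (lift a.act (snd G X))).2 (lift_fst _ _).symm, lift_fst]

theorem dot_cancel (ha : NonAbH1.IsPseudoTorsorSch a) {T : Over S} {g g' : T ⟶ G} {x : T ⟶ X}
    (h : dot a g x = dot a g' x) : g = g' := by
  haveI : IsIso (lift a.act (snd G X)) := ha
  have : lift g x = lift g' x := by
    rw [← cancel_mono (lift a.act (snd G X)), comp_lift, comp_lift, lift_snd, lift_snd]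
    exact congrArg (lift · x) h
  simpa using congrArg (· ≫ fst G X) this

/-- An action simply transitive on points is a pseudo-torsor. -/
theorem isPseudoTorsor_of_points (hex : ∀ (T : Over S) (x y : T ⟶ X), ∃ g : T ⟶ G, dot a g y = x)
    (huniq : ∀ (T : Over S) (g g' : T ⟶ G) (x : T ⟶ X), dot a g x = dot a g' x → g = g') :
    NonAbH1.IsPseudoTorsorSch a := by
  obtain ⟨d, hd⟩ := hex (X ⊗ X) (fst X X) (snd X X)
  refine ⟨⟨lift d (snd X X), ?_, ?_⟩⟩
  · have h1 : lift a.act (snd G X) ≫ d = fst G X := by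
      refine huniq _ _ _ (snd G X) ?_
      rw [← act_eq_dot]
      have := congrArg (lift a.act (snd G X) ≫ ·) hd
      simp only [comp_dot, lift_fst, lift_snd] at this
      exact this
    rw [comp_lift, h1, lift_snd, lift_fst_snd]
  · rw [comp_lift, show lift d (snd X X) ≫ a.act = fst X X from hd, lift_snd, lift_fst_snd]

end Action

section Exact

variable {G G' G'' : Over S} [GrpObj G] [GrpObj G'] [GrpObj G''] {u : G' ⟶ G} {v : G ⟶ G''}
  (hex : NonAbH1.IsExactSeq Scheme.fpqcPrecoverage u v)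
include hex

theorem comp_eq_one {T : Over S} (g : T ⟶ G') : (g ≫ u) ≫ v = 1 := by
  rw [Category.assoc, hex.2.2.1, MonObj.comp_one]

theorem exists_translate {T : Over S} (x y : T ⟶ G) (hxy : x ≫ v = y ≫ v) :
    ∃ g : T ⟶ G', y = x * (g ≫ u) := by
  obtain ⟨w, hw1, hw2⟩ := hex.2.2.2.1.exists_lift x y hxy
  refine ⟨w ≫ snd G G', ?_⟩
  rw [← hw2, ← hw1, Hom.mul_def, ← Category.assoc]
  congr 1
  apply CartesianMonoidalCategory.hom_ext
  · rw [Category.assoc, lift_fst, whiskerLeft_fst]
  · rw [Category.assoc, lift_snd, whiskerLeft_snd, Category.assoc]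

theorem u_injective {T : Over S} {g g' : T ⟶ G'} (hg : g ≫ u = g' ≫ u) : g = g' := by
  have key : lift (1 : T ⟶ G) g = lift (1 : T ⟶ G) g' := by
    refine hex.2.2.2.1.hom_ext ?_ ?_
    · rw [lift_fst, lift_fst]
    · rw [← Category.assoc, ← Category.assoc, lift_whiskerLeft, lift_whiskerLeft, hg]
  simpa using congrArg (fun z => z ≫ snd G G') key

end Exact

end Groth.Pi1Tors
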