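import Groth.Agent.Pi1Tors.Points

/-!
# Exactness of sequences of group schemes from their points
-/

set_option autoImplicit false
set_option backward.isDefEq.respectTransparency false
set_option backward.defeqAttrib.useBackward true

universe u

open CategoryTheory CategoryTheory.Limits MonoidalCategory CartesianMonoidalCategory MonObj GrpObj AlgebraicGeometry

namespace Groth.Pi1Tors

variable {S : Scheme.{u}} {G G' G'' : Over S} [GrpObj G] [GrpObj G'] [GrpObj G'']

/-- Exactness from exactness on points and local sections of the quotient map. -/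
theorem isExactSeq_of_points' (u : G' ⟶ G) (v : G ⟶ G'') [IsMonHom u] [IsMonHom v]
    (h1 : ∀ (T : Over S) (g : T ⟶ G'), (g ≫ u) ≫ v = 1)
    (hex : ∀ (T : Over S) (x : T ⟶ G), x ≫ v = 1 → ∃ g : T ⟶ G', g ≫ u = x)
    (hinj : ∀ (T : Over S) (g g' : T ⟶ G'), g ≫ u = g' ≫ u → g = g')
    (hloc : NonAbH1.IsLocallyTrivialFor Scheme.fpqcPrecoverage (Over.mk v.left : Over G''.left)) :
    NonAbH1.IsExactSeq Scheme.fpqcPrecoverage u v := by
  have hact : ∀ {T : Over S} (x : T ⟶ G) (g : T ⟶ G'),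
      lift x g ≫ (G ◁ u) ≫ μ[G] = x * (g ≫ u) := fun x g => by
    rw [← Category.assoc, lift_whiskerLeft, Hom.mul_def]
  have hlift : ∀ {T : Over S} (x y : T ⟶ G), x ≫ v = y ≫ v → ∃ g : T ⟶ G', y = x * (g ≫ u) := by
    intro T x y h
    obtain ⟨g, hg⟩ := hex T (x⁻¹ * y) (by rw [MonObj.mul_comp, GrpObj.inv_comp, h, inv_mul_cancel])
    exact ⟨g, by rw [hg, mul_inv_cancel_left]⟩
  have hw : fst G G' ≫ v = ((G ◁ u) ≫ μ[G]) ≫ v := by
    rw [show (G ◁ u) ≫ μ[G] = fst G G' * (snd G G' ≫ u) by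
      rw [← hact, lift_fst_snd, Category.id_comp], MonObj.mul_comp, h1 _ (snd G G'), _root_.mul_one]
  refine ⟨inferInstance, inferInstance, (Category.id_comp (u ≫ v)).symm.trans ((Category.assoc _ _ _).symm.trans (h1 G' (𝟙 G'))),
    ⟨⟨hw⟩, ⟨PullbackCone.IsLimit.mk hw
      (fun c => lift c.fst (hlift c.fst c.snd c.condition).choose)
      (fun c => lift_fst _ _)
      (fun c => by rw [hact]; exact (hlift c.fst c.snd c.condition).choose_spec.symm)
      (fun c m hm1 hm2 => ?_)⟩⟩, hloc⟩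
  apply CartesianMonoidalCategory.hom_ext
  · rw [lift_fst, hm1]
  · rw [lift_snd]
    refine hinj _ _ _ (mul_left_cancel (a := c.fst) ?_)
    rw [← (hlift c.fst c.snd c.condition).choose_spec, ← hm2,
      ← hact c.fst (m ≫ snd G G'), ← hm1]
    congr 1
    apply CartesianMonoidalCategory.hom_ext <;> simp

/-- Exactness from exactness on points and a flat surjective quasi-compact quotient map. -/
theorem isExactSeq_of_points (u : G' ⟶ G) (v : G ⟶ G'') [IsMonHom u] [IsMonHom v]
    (h1 : ∀ (T : Over S) (g : T ⟶ G'), (g ≫ u) ≫ v = 1)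
    (hex : ∀ (T : Over S) (x : T ⟶ G), x ≫ v = 1 → ∃ g : T ⟶ G', g ≫ u = x)
    (hinj : ∀ (T : Over S) (g g' : T ⟶ G'), g ≫ u = g' ≫ u → g = g')
    [Flat v.left] [Surjective v.left] [QuasiCompact v.left] :
    NonAbH1.IsExactSeq Scheme.fpqcPrecoverage u v :=
  isExactSeq_of_points' u v h1 hex hinj
    ⟨Presieve.singleton v.left, Scheme.Hom.singleton_mem_fpqcPrecoverage v.left, fun S' f hf => by
      cases hf; exact ⟨𝟙 _, Category.id_comp _⟩⟩

end Groth.Pi1Tors
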