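import Groth.Agent.Pi1Tors.Points
import Groth.Agent.DescentBase.FpqcCover
import Mathlib.RingTheory.Flat.FaithfullyFlat.Algebra
import Mathlib.AlgebraicGeometry.Pullbacks

/-!
# Descending sections of fpqc torsors to Zariski neighbourhoods
-/

set_option autoImplicit false
set_option backward.isDefEq.respectTransparency false
set_option backward.defeqAttrib.useBackward true
set_option linter.style.haveILetI false

universe u

open CategoryTheory CategoryTheory.Limits MonoidalCategory CartesianMonoidalCategory MonObj GrpObj AlgebraicGeometry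
open scoped TensorProduct

namespace Groth.Pi1Tors

variable {S : Scheme.{u}} {A : Type u} [CommRing A] (j : Spec (CommRingCat.of A) ⟶ S)

/-- The spectrum of an algebra as an object over `S`. -/
noncomputable abbrev specObj (R : Type u) [CommRing R] [Algebra A R] : Over S :=
  Over.mk (Spec.map (CommRingCat.ofHom (algebraMap A R)) ≫ j)

/-- Functoriality of `specObj`. -/
noncomputable def specPt {R R' : Type u} [CommRing R] [CommRing R'] [Algebra A R] [Algebra A R']
    (ψ : R →ₐ[A] R') : specObj j R' ⟶ specObj j R :=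
  Over.homMk (Spec.map (CommRingCat.ofHom ψ.toRingHom)) (by
    change _ ≫ Spec.map _ ≫ j = Spec.map _ ≫ j
    rw [← Category.assoc, ← Spec.map_comp, ← CommRingCat.ofHom_comp]
    exact congrArg (fun k => Spec.map (CommRingCat.ofHom k) ≫ j) ψ.comp_algebraMap)

theorem specPt_comp {R R' R'' : Type u} [CommRing R] [CommRing R'] [CommRing R''] [Algebra A R] [Algebra A R']
    [Algebra A R''] (ψ : R →ₐ[A] R') (ψ' : R' →ₐ[A] R'') :
    specPt j ψ' ≫ specPt j ψ = specPt j (ψ'.comp ψ) := by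
  refine Over.OverMorphism.ext ?_
  change Spec.map _ ≫ Spec.map _ = Spec.map _
  rw [← Spec.map_comp, ← CommRingCat.ofHom_comp]
  rfl

/-- The ring map of a point of an affine object. -/
noncomputable def val {R : Type u} [CommRing R] [Algebra A R] {T : Over S} (w : T ⟶ specObj j R) :
    R →+* Γ(T.left, ⊤) :=
  w.left.appTop.hom.comp (Scheme.ΓSpecIso (CommRingCat.of R)).inv.hom

theorem val_comp {R : Type u} [CommRing R] [Algebra A R] {T T' : Over S} (h : T' ⟶ T) (w : T ⟶ specObj j R) (r : R) :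
    val j (h ≫ w) r = h.left.appTop (val j w r) := rfl

theorem val_specPt {R R' : Type u} [CommRing R] [CommRing R'] [Algebra A R] [Algebra A R'] (ψ : R →ₐ[A] R')
    {T : Over S} (w : T ⟶ specObj j R') (r : R) : val j (w ≫ specPt j ψ) r = val j w (ψ r) := by
  change w.left.appTop ((Spec.map (CommRingCat.ofHom ψ.toRingHom)).appTop _) = _
  exact congrArg w.left.appTop (RingHom.congr_fun (congrArg CommRingCat.Hom.hom
    (Scheme.ΓSpecIso_inv_naturality (CommRingCat.ofHom ψ.toRingHom))) r).symm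

theorem val_id_bijective {R : Type u} [CommRing R] [Algebra A R] :
    Function.Bijective (val j (𝟙 (specObj j R))) :=
  (Scheme.ΓSpecIso (CommRingCat.of R)).commRingCatIsoToRingEquiv.symm.bijective

/-- The part of `Spec B` over an open of `Spec A`. -/
noncomputable abbrev preObj (B : Type u) [CommRing B] [Algebra A B] (V : (Spec (CommRingCat.of A)).Opens) : Over S :=
  Over.mk ((Spec.map (CommRingCat.ofHom (algebraMap A B)) ⁻¹ᵁ V).ι ≫
    Spec.map (CommRingCat.ofHom (algebraMap A B)) ≫ j)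

/-- Its inclusion. -/
noncomputable abbrev preIncl (B : Type u) [CommRing B] [Algebra A B] (V : (Spec (CommRingCat.of A)).Opens) :
    preObj j B V ⟶ specObj j B :=
  Over.homMk (Spec.map (CommRingCat.ofHom (algebraMap A B)) ⁻¹ᵁ V).ι rfl

theorem isUnit_val_preIncl {B : Type u} [CommRing B] [Algebra A B] {f : A} {V : (Spec (CommRingCat.of A)).Opens}
    (hV : V ≤ PrimeSpectrum.basicOpen f) : IsUnit (val j (preIncl j B V) (algebraMap A B f)) := by
  refine (preObj j B V).left.toRingedSpace.isUnit_of_isUnit_germ ⊤ _ fun w _ => ?_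
  refine (Scheme.mem_basicOpen_top (X := (preObj j B V).left) _ w).1 ?_
  change w ∈ Scheme.basicOpen _ ((Spec.map (CommRingCat.ofHom (algebraMap A B)) ⁻¹ᵁ V).ι.appTop _)
  rw [← Scheme.preimage_basicOpen_top]
  erw [basicOpen_eq_of_affine]
  exact hV w.2

variable {B : Type u} [CommRing B] [Algebra A B]

/-- Two points of `Spec B` agreeing on `Spec A` come from `Spec (B ⊗ B)`. -/
theorem exists_pair {T : Over S} (x y : T ⟶ specObj j B)
    (h : x.left ≫ Spec.map (CommRingCat.ofHom (algebraMap A B)) = y.left ≫ Spec.map (CommRingCat.ofHom (algebraMap A B))) :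
    ∃ w : T ⟶ specObj j (B ⊗[A] B),
      w ≫ specPt j (Algebra.TensorProduct.includeLeft : B →ₐ[A] B ⊗[A] B) = x ∧
      w ≫ specPt j (Algebra.TensorProduct.includeRight : B →ₐ[A] B ⊗[A] B) = y := by
  let l : T.left ⟶ Spec (CommRingCat.of (B ⊗[A] B)) := pullback.lift x.left y.left h ≫ (pullbackSpecIso A B B).hom
  have h1 : l ≫ Spec.map (CommRingCat.ofHom (Algebra.TensorProduct.includeLeft : B →ₐ[A] B ⊗[A] B).toRingHom) = x.left := by
    rw [Category.assoc]
    exact (congrArg (pullback.lift x.left y.left h ≫ ·) (pullbackSpecIso_hom_fst A B B)).trans (pullback.lift_fst _ _ _)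
  have h2 : l ≫ Spec.map (CommRingCat.ofHom (Algebra.TensorProduct.includeRight : B →ₐ[A] B ⊗[A] B).toRingHom) = y.left := by
    rw [Category.assoc]
    exact (congrArg (pullback.lift x.left y.left h ≫ ·) (pullbackSpecIso_hom_snd A B B)).trans (pullback.lift_snd _ _ _)
  have hl : l ≫ Spec.map (CommRingCat.ofHom (algebraMap A (B ⊗[A] B))) ≫ j = T.hom := by
    rw [← Over.w x, ← h1, Category.assoc]
    change _ = l ≫ Spec.map _ ≫ Spec.map _ ≫ j
    rw [← Category.assoc (Spec.map (CommRingCat.ofHom _)), ← Spec.map_comp, ← CommRingCat.ofHom_comp]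
    exact congrArg (fun k => l ≫ Spec.map (CommRingCat.ofHom k) ≫ j) ((Algebra.TensorProduct.includeLeft : B →ₐ[A] B ⊗[A] B).comp_algebraMap).symm
  exact ⟨Over.homMk l hl, Over.OverMorphism.ext h1, Over.OverMorphism.ext h2⟩

/-- `x ↦ x ⊗ y ↦ x ⊗ y ⊗ 1`. -/
noncomputable abbrev p12 : B ⊗[A] B →ₐ[A] B ⊗[A] (B ⊗[A] B) :=
  Algebra.TensorProduct.lift Algebra.TensorProduct.includeLeft
    (Algebra.TensorProduct.includeRight.comp Algebra.TensorProduct.includeLeft) fun _ _ => Commute.all _ _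

/-- `x ⊗ y ↦ x ⊗ 1 ⊗ y`. -/
noncomputable abbrev p13 : B ⊗[A] B →ₐ[A] B ⊗[A] (B ⊗[A] B) :=
  Algebra.TensorProduct.lift Algebra.TensorProduct.includeLeft
    (Algebra.TensorProduct.includeRight.comp Algebra.TensorProduct.includeRight) fun _ _ => Commute.all _ _

/-- `x ⊗ y ↦ 1 ⊗ x ⊗ y`. -/
noncomputable abbrev p23 : B ⊗[A] B →ₐ[A] B ⊗[A] (B ⊗[A] B) := Algebra.TensorProduct.includeRight

theorem p12_tmul (x y : B) : p12 (A := A) (x ⊗ₜ y) = x ⊗ₜ (y ⊗ₜ 1) := by simp [p12]

theorem p13_tmul (x y : B) : p13 (A := A) (x ⊗ₜ y) = x ⊗ₜ (1 ⊗ₜ y) := by simp [p13]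

theorem p23_tmul (x y : B) : p23 (A := A) (x ⊗ₜ y) = 1 ⊗ₜ (x ⊗ₜ y) := rfl

variable {G X : Over S} [GrpObj G] (a : AlgGrp.Action G X) (ha : NonAbH1.IsPseudoTorsorSch a) (s : specObj j B ⟶ X)
include ha

/-- The descent cocycle of a point of a pseudo-torsor. -/
theorem exists_cocycle : ∃ g : specObj j (B ⊗[A] B) ⟶ G,
    dot a g (specPt j Algebra.TensorProduct.includeLeft ≫ s) = specPt j Algebra.TensorProduct.includeRight ≫ s ∧
    specPt j p13 ≫ g = (specPt j p23 ≫ g) * (specPt j p12 ≫ g) := by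
  obtain ⟨g, hg⟩ := exists_dot_eq a ha (specPt j (Algebra.TensorProduct.includeRight : B →ₐ[A] B ⊗[A] B) ≫ s)
    (specPt j Algebra.TensorProduct.includeLeft ≫ s)
  refine ⟨g, hg, ?_⟩
  have hp : ∀ (ψ : B ⊗[A] B →ₐ[A] B ⊗[A] (B ⊗[A] B)) (r r' : B →ₐ[A] B ⊗[A] (B ⊗[A] B)),
      ψ.comp Algebra.TensorProduct.includeLeft = r → ψ.comp Algebra.TensorProduct.includeRight = r' →
      dot a (specPt j ψ ≫ g) (specPt j r ≫ s) = specPt j r' ≫ s := by
    rintro ψ r r' rfl rfl
    rw [← specPt_comp, ← specPt_comp, Category.assoc, Category.assoc, ← comp_dot, hg]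
  have e12 := hp p12 Algebra.TensorProduct.includeLeft
    (Algebra.TensorProduct.includeRight.comp Algebra.TensorProduct.includeLeft)
    (AlgHom.ext fun b => by simp [p12]) (AlgHom.ext fun b => by simp [p12])
  have e23 := hp p23 (Algebra.TensorProduct.includeRight.comp Algebra.TensorProduct.includeLeft)
    (Algebra.TensorProduct.includeRight.comp Algebra.TensorProduct.includeRight) rfl rfl
  have e13 := hp p13 Algebra.TensorProduct.includeLeft
    (Algebra.TensorProduct.includeRight.comp Algebra.TensorProduct.includeRight)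
    (AlgHom.ext fun b => by simp [p13]) (AlgHom.ext fun b => by simp [p13])
  exact dot_cancel a ha (e13.trans (by rw [mul_dot, e12, e23]))

omit ha in
/-- A point over `π⁻¹ V` whose cocycle is corrected by `k` descends to `V`. -/
theorem exists_section [Module.FaithfullyFlat A B] (g : specObj j (B ⊗[A] B) ⟶ G)
    (hg : dot a g (specPt j Algebra.TensorProduct.includeLeft ≫ s) = specPt j Algebra.TensorProduct.includeRight ≫ s)
    (V : (Spec (CommRingCat.of A)).Opens) (k : preObj j B V ⟶ G)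
    (hk : ∀ (T : Over S) (x y : T ⟶ preObj j B V) (w : T ⟶ specObj j (B ⊗[A] B)),
      w ≫ specPt j Algebra.TensorProduct.includeLeft = x ≫ preIncl j B V →
      w ≫ specPt j Algebra.TensorProduct.includeRight = y ≫ preIncl j B V → (y ≫ k) * (w ≫ g) = x ≫ k) :
    NonAbH1.HasSectionOver X (V.ι ≫ j) := by
  let π := Spec.map (CommRingCat.ofHom (algebraMap A B))
  let q : preObj j B V ⟶ Over.mk (V.ι ≫ j) := Over.homMk (π ∣_ V) (by
    change (π ∣_ V) ≫ V.ι ≫ j = _
    rw [← Category.assoc, morphismRestrict_ι, Category.assoc]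
    rfl)
  haveI : Flat π := Flat.SpecMap_iff.2 (RingHom.flat_algebraMap_iff.2 inferInstance)
  haveI : Surjective π := ⟨PrimeSpectrum.comap_surjective_of_faithfullyFlat (A := A) (B := B)⟩
  haveI : Flat (π ∣_ V) := MorphismProperty.of_isPullback (P := @Flat) (isPullback_morphismRestrict π V).flip inferInstance
  haveI : Surjective (π ∣_ V) :=
    MorphismProperty.of_isPullback (P := @Surjective) (isPullback_morphismRestrict π V).flip inferInstance
  haveI : QuasiCompact (π ∣_ V) :=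
    MorphismProperty.of_isPullback (P := @QuasiCompact) (isPullback_morphismRestrict π V).flip inferInstance
  have hq : LocSurj q := LocSurj.of_isLocallyTrivialFor q
    ⟨Presieve.singleton (π ∣_ V), Scheme.Hom.singleton_mem_fpqcPrecoverage (π ∣_ V), by
      rintro S' h ⟨⟩; exact ⟨𝟙 _, Category.id_comp _⟩⟩
  obtain ⟨t, -⟩ := hq.desc (dot a k (preIncl j B V ≫ s)) fun T x y hxy => by
    have hb : (x ≫ preIncl j B V).left ≫ π = (y ≫ preIncl j B V).left ≫ π := by
      have := congrArg (fun z => z.left ≫ V.ι) hxy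
      simpa [q] using this
    obtain ⟨w, hw1, hw2⟩ := exists_pair j (x ≫ preIncl j B V) (y ≫ preIncl j B V) hb
    rw [comp_dot, comp_dot, ← Category.assoc y, ← hw2, Category.assoc w, ← hg, comp_dot, ← mul_dot,
      hk T x y w hw1 hw2, ← Category.assoc w, hw1, Category.assoc]
  exact ⟨t.left, Over.w t⟩

omit ha in
/-- Reduction of Zariski local triviality to faithfully flat extensions of affine opens. -/
theorem isLocallyTrivial_zariski (hX : NonAbH1.IsLocallyTrivialFor Scheme.fpqcPrecoverage X)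
    (H : ∀ (A B : Type u) [CommRing A] [CommRing B] [Algebra A B] [Module.FaithfullyFlat A B]
      (j : Spec (CommRingCat.of A) ⟶ S) (_ : specObj j B ⟶ X) (x : Spec (CommRingCat.of A)),
      ∃ V : (Spec (CommRingCat.of A)).Opens, x ∈ V ∧ NonAbH1.HasSectionOver X (V.ι ≫ j)) :
    NonAbH1.IsLocallyTrivialFor Scheme.zariskiPrecoverage X := by
  obtain ⟨R, hR, hsec⟩ := hX
  obtain ⟨I, Y, g, rfl⟩ := R.exists_eq_ofArrows
  let 𝒰 : Scheme.Cover Scheme.fpqcPrecoverage S := { I₀ := I, X := Y, f := g, mem₀ := hR }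
  choose σ hσ using fun i => hsec (g i) (Presieve.ofArrows.mk i)
  have key : ∀ z : S, ∃ (T : Scheme.{u}) (f : T ⟶ S), IsOpenImmersion f ∧ z ∈ Set.range f ∧
      NonAbH1.HasSectionOver X f := by
    intro z
    obtain ⟨U, hU, hzU, -⟩ := exists_isAffineOpen_mem_and_subset (X := S) (x := z) (U := ⊤) trivial
    let j : Spec (CommRingCat.of Γ(S, U)) ⟶ S := hU.fromSpec
    obtain ⟨m, _, W, hW, c, t, ht, hπ⟩ := DescentBase.exists_affine_refinement (𝒰.pullback₁ j)
    haveI : ∀ i, IsAffine (W i) := hW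
    let π₀ : (∐ W) ⟶ Spec (CommRingCat.of Γ(S, U)) := Sigma.desc fun i => t i ≫ pullback.fst j (g (c i))
    obtain ⟨⟨hsurj, hflat⟩, -⟩ : (Surjective π₀ ∧ Flat π₀) ∧ QuasiCompact π₀ := hπ
    obtain ⟨φ, hφ⟩ := Spec.map_surjective ((∐ W).isoSpec.inv ≫ π₀)
    let B : Type u := Γ(∐ W, ⊤)
    letI : Algebra Γ(S, U) B := φ.hom.toAlgebra
    have hmap : Spec.map (CommRingCat.ofHom (algebraMap Γ(S, U) B)) = (∐ W).isoSpec.inv ≫ π₀ := hφ
    haveI : Flat ((∐ W).isoSpec.inv ≫ π₀) := inferInstance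
    haveI : Surjective ((∐ W).isoSpec.inv ≫ π₀) := inferInstance
    haveI : Module.Flat Γ(S, U) B :=
      RingHom.flat_algebraMap_iff.1 (Flat.SpecMap_iff.1 (hmap ▸ inferInstance :
        Flat (Spec.map (CommRingCat.ofHom (algebraMap Γ(S, U) B)))))
    haveI : Module.FaithfullyFlat Γ(S, U) B := by
      refine Module.FaithfullyFlat.of_comap_surjective fun q => ?_
      obtain ⟨w, hw⟩ := ((∐ W).isoSpec.inv ≫ π₀).surjective q
      refine ⟨w, ?_⟩
      rw [← hmap] at hw
      exact hw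
    let s₀ : (∐ W) ⟶ X.left := Sigma.desc fun i => t i ≫ pullback.snd j (g (c i)) ≫ σ (c i)
    have hs₀ : s₀ ≫ X.hom = π₀ ≫ j := Sigma.hom_ext _ _ fun i => by
      simp [s₀, π₀, hσ, pullback.condition]
    let s : specObj j B ⟶ X := Over.homMk ((∐ W).isoSpec.inv ≫ s₀) (by
      change ((∐ W).isoSpec.inv ≫ s₀) ≫ X.hom = Spec.map _ ≫ j
      rw [Category.assoc, hs₀, hmap, Category.assoc])
    obtain ⟨x, hx⟩ : z ∈ Set.range hU.fromSpec := by rw [hU.range_fromSpec]; exact hzU
    obtain ⟨V, hxV, hV⟩ := H Γ(S, U) B j s x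
    exact ⟨V, V.ι ≫ j, inferInstance, ⟨⟨x, hxV⟩, (Scheme.Hom.comp_apply _ _ _).trans hx⟩, hV⟩
  choose T f hf hmem hs using key
  refine ⟨Presieve.ofArrows T f, ?_, ?_⟩
  · rw [Scheme.ofArrows_mem_precoverage_iff]
    exact ⟨fun z => ⟨z, hmem z⟩, hf⟩
  · rintro S' f' ⟨z⟩
    exact hs z

end Groth.Pi1Tors
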